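import Groth.Agent.Lib.Lead.RSp.ComplFlat
import Groth.Agent.Lib.Lead.RSp.FPKer
import Groth.Agent.Lib.Helper2.OshSurj
import Groth.Prelude.Def_FSch5

/-! # On a formal scheme, surjectivity of a morphism onto a module of finite type can be tested
on the smallest level.

General part: for a morphism of ringed spaces `(X, O_X) ⟶ (Y, O_Y)` which is surjective on
points, whose stalk maps are surjective with kernel in the Jacobson radical, a morphism
`θ : F ⟶ G` of `O_Y`-modules with `G` of finite type is an epimorphism as soon as every morphism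
from its cokernel to a pushforward vanishes (skyscraper modules + Nakayama).

Formal part: the stalk maps of `u_0 : X_0 ⟶ 𝔛` are surjective with kernel in the Jacobson radical.
-/

universe u
open CategoryTheory Limits Opposite TopologicalSpace AlgebraicGeometry

noncomputable section

namespace Groth.Agent.LD.FCompl.EpiLevel

open Groth.Agent.LD.RSp Groth.Agent.LD.RSp.Sky

/-- the stalk of a module with finitely many local generators is finitely generated. -/
lemma st_fg_of_locGen {Z : TopCat.{u}} {O : TopCat.Sheaf CommRingCat.{u} Z} (F : ModSite.Mod O)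
    (z : Z) {U : Opens Z} (hzU : z ∈ U) {ι : Type u} [Fintype ι] (s : ι → ModSite.sect F U)
    (hs : LocGen F U s) : (⊤ : Submodule (Ox O z) (St F z)).FG := by
  have hspan : Submodule.span (Ox O z) (Set.range fun j => gM F z U hzU (s j)) = ⊤ := by
    rw [eq_top_iff]
    intro m _
    obtain ⟨V, hzV, t, rfl⟩ := gM_surj z F m
    obtain ⟨W, hW, hzW, r, hr⟩ := hs (V ⊓ U) inf_le_right (res F inf_le_left t) z ⟨hzV, hzU⟩
    have h1 : gM F z V hzV t = gM F z W hzW (res F hW (res F inf_le_left t)) := by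
      rw [gM_res z F hW hzW ⟨hzV, hzU⟩, gM_res z F inf_le_left ⟨hzV, hzU⟩ hzV]
    rw [h1, hr, map_sum]
    refine Submodule.sum_mem _ fun j _ => ?_
    rw [gM_smul, gM_res z F (hW.trans inf_le_right) hzW hzU]
    exact Submodule.smul_mem _ _ (Submodule.subset_span ⟨j, rfl⟩)
  rw [← hspan]
  exact Submodule.fg_span (Set.finite_range _)

/-- germs of functions which agree coincide on a neighbourhood. -/
lemma gR_eq {Z : TopCat.{u}} (O : TopCat.Sheaf CommRingCat.{u} Z) (z : Z) {U V : Opens Z}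
    (hU : z ∈ U) (hV : z ∈ V) (a : (ModSite.ringSh O).obj.obj (op U))
    (b : (ModSite.ringSh O).obj.obj (op V)) (hab : gR O z U hU a = gR O z V hV b) :
    ∃ (W : Opens Z) (_ : z ∈ W) (hWU : W ≤ U) (hWV : W ≤ V), rr O hWU a = rr O hWV b := by
  obtain ⟨W, hW, iU, iV, e⟩ := TopCat.Presheaf.germ_eq O.presheaf z hU hV a b hab
  exact ⟨W, hW, leOfHom iU, leOfHom iV, e⟩

section General
variable {X Y : TopCat.{u}} (f : X ⟶ Y) {O_X : TopCat.Sheaf CommRingCat.{u} X}
  {O_Y : TopCat.Sheaf CommRingCat.{u} Y}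
  (c : O_Y ⟶ ((Opens.map f).sheafPushforwardContinuous CommRingCat.{u}
    (Opens.grothendieckTopology Y) (Opens.grothendieckTopology X)).obj O_X)

/-- a semilinear map from the stalk at `f x` to a module over the stalk of the source at `x`
defines a morphism to the pushforward of the skyscraper module. -/
theorem exists_toPushSky (x : X) (E : Type u) [AddCommGroup E] [Module (Ox O_X x) E]
    (F : ModSite.Mod O_Y) (ℓ : St F (f x) →+ E)
    (hℓ : ∀ (r : Ox O_Y (f x)) (m : St F (f x)), ℓ (r • m) = stalkHom f c x r • ℓ m) :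
    ∃ g : F ⟶ (rm f c).push.obj (sky O_X x E), ∀ (V : Opens Y) (hx : f x ∈ V)
      (s : ModSite.sect F V),
      toE O_X x E (ofP f c (sky O_X x E) V (g.val.app (op V) s)) hx =
        ℓ (gM F (f x) V hx s) := by
  letI : Module (Ox O_Y (f x)) E := Module.compHom E (stalkHom f c x)
  obtain ⟨g₀, hg₀⟩ := exists_toSky (O := O_Y) (x := f x) (E := E) F
    { toFun := ℓ
      map_add' := map_add ℓ
      map_smul' := fun r m => hℓ r m }
  obtain ⟨β, hβ⟩ := exists_hom_of_small (sky O_Y (f x) E) ((rm f c).push.obj (sky O_X x E))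
    (fun _ => True) (fun _ _ => trivial) (fun y => ⟨⊤, trivial, Opens.mem_top y⟩)
    (fun V _ t => (ofP f c (sky O_X x E) V).symm
      (mkS O_X x E (fun h => toE O_Y (f x) E t h)))
    (fun V _ t t' => by
      apply (ofP f c (sky O_X x E) V).injective
      rw [map_add, AddEquiv.apply_symm_apply, AddEquiv.apply_symm_apply,
        AddEquiv.apply_symm_apply]
      apply toE_ext
      intro h
      rw [toE_add, toE_mkS, toE_mkS, toE_mkS, toE_add])
    (fun V _ b t => by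
      apply (ofP f c (sky O_X x E) V).injective
      rw [ofP_smul, AddEquiv.apply_symm_apply, AddEquiv.apply_symm_apply]
      apply toE_ext
      intro h
      rw [toE_smul, toE_mkS, toE_mkS, toE_smul, ← stalkHom_gR]
      rfl)
    (fun V _ W hW t => by
      apply (ofP f c (sky O_X x E) W).injective
      rw [ofP_res, AddEquiv.apply_symm_apply, AddEquiv.apply_symm_apply]
      apply toE_ext
      intro h
      rw [toE_res, toE_mkS, toE_mkS, toE_res])
  refine ⟨g₀ ≫ β, fun V hx s => ?_⟩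
  have h1 : (g₀ ≫ β).val.app (op V) s = β.val.app (op V) (g₀.val.app (op V) s) := rfl
  have h2 : β.val.app (op V) (g₀.val.app (op V) s) = (ofP f c (sky O_X x E) V).symm
      (mkS O_X x E (fun hx' => toE O_Y (f x) E (g₀.val.app (op V) s) hx')) :=
    hβ V trivial _
  rw [h1, h2, AddEquiv.apply_symm_apply]
  exact hg₀ V s hx

/-- the quotient of the stalk at `f x` by the kernel of the stalk map. -/
abbrev QE (F : ModSite.Mod O_Y) (x : X) : Type u :=
  St F (f x) ⧸ (RingHom.ker (stalkHom f c x) • (⊤ : Submodule (Ox O_Y (f x)) (St F (f x))))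

/-- its module structure over the stalk of the source, when the stalk map is surjective. -/
@[reducible] def modQE (x : X) (hs : Function.Surjective (stalkHom f c x))
    (F : ModSite.Mod O_Y) : Module (Ox O_X x) (QE f c F x) :=
  Module.compHom (QE f c F x) (RingHom.quotientKerEquivOfSurjective hs).symm.toRingHom

lemma modQE_smul (x : X) (hs : Function.Surjective (stalkHom f c x)) (F : ModSite.Mod O_Y)
    (r : Ox O_Y (f x)) (m : St F (f x)) :
    letI := modQE f c x hs F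
    (stalkHom f c x r) • (Submodule.Quotient.mk m : QE f c F x) =
      Submodule.Quotient.mk (r • m) := by
  show ((RingHom.quotientKerEquivOfSurjective hs).symm (stalkHom f c x r)) •
    (Submodule.Quotient.mk m : QE f c F x) = _
  rw [RingHom.quotientKerEquivOfSurjective_symm_apply]
  rfl

/-- if every morphism from `F` to a pushforward vanishes, the stalks of `F` are killed by
reduction modulo the kernel of the stalk maps. -/
lemma mem_ker_smul_top (x : X) (hsurj : Function.Surjective (stalkHom f c x))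
    (F : ModSite.Mod O_Y)
    (hzero : ∀ (N' : ModSite.Mod O_X) (ψ : F ⟶ (rm f c).push.obj N'), ψ = 0)
    (m : St F (f x)) :
    m ∈ RingHom.ker (stalkHom f c x) • (⊤ : Submodule (Ox O_Y (f x)) (St F (f x))) := by
  letI := modQE f c x hsurj F
  obtain ⟨g, hg⟩ := exists_toPushSky f c x (QE f c F x) F
    (Submodule.mkQ (RingHom.ker (stalkHom f c x) •
      (⊤ : Submodule (Ox O_Y (f x)) (St F (f x))))).toAddMonoidHom
    (fun r m' => (modQE_smul f c x hsurj F r m').symm)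
  obtain ⟨V, hV, s, rfl⟩ := gM_surj (f x) F m
  have h1 := hg V hV s
  rw [hzero _ g] at h1
  have h2 : (Submodule.Quotient.mk (gM F (f x) V hV s) : QE f c F x) = 0 := h1.symm
  exact (Submodule.Quotient.mk_eq_zero _).mp h2

/-- a morphism onto a module of finite type is an epimorphism as soon as every morphism from
its cokernel to a pushforward vanishes, when the stalk maps are surjective with kernel in the
Jacobson radical. -/
theorem epi_of_push_hom_zero (hf : Function.Surjective f)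
    (hsurj : ∀ x, Function.Surjective (stalkHom f c x))
    (hjac : ∀ x, RingHom.ker (stalkHom f c x) ≤ (⊥ : Ideal (Ox O_Y (f x))).jacobson)
    {F G : ModSite.Mod O_Y} (θ : F ⟶ G)
    (hG : SheafOfModules.IsFiniteType (R := ModSite.ringSh O_Y) G)
    (hzero : ∀ (N' : ModSite.Mod O_X) (ψ : cokernel θ ⟶ (rm f c).push.obj N'), ψ = 0) :
    Epi θ := by
  have hst : ∀ (y : Y) (m : St (cokernel θ) y), m = 0 := by
    intro y m
    obtain ⟨x, rfl⟩ := hf y
    have hfg : (⊤ : Submodule (Ox O_Y (f x)) (St (cokernel θ) (f x))).FG := by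
      obtain ⟨U, hxU, ι, _, s, hs⟩ := (isFiniteType_iff G).mp hG (f x)
      exact st_fg_of_locGen (cokernel θ) (f x) hxU _ (LocGen.map_epi (cokernel.π θ) hs)
    have htop : (⊤ : Submodule (Ox O_Y (f x)) (St (cokernel θ) (f x))) ≤
        RingHom.ker (stalkHom f c x) • ⊤ :=
      fun m' _ => mem_ker_smul_top f c x (hsurj x) (cokernel θ) hzero m'
    have hbot := Submodule.eq_bot_of_le_smul_of_le_jacobson_bot _ _ hfg htop (hjac x)
    have hm : m ∈ (⊤ : Submodule (Ox O_Y (f x)) (St (cokernel θ) (f x))) := Submodule.mem_top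
    rw [hbot] at hm
    exact (Submodule.mem_bot _).mp hm
  apply Abelian.epi_of_cokernel_π_eq_zero
  apply hom_ext'
  intro W s
  have h0 : (0 : G ⟶ cokernel θ).val.app (op W) s = 0 := rfl
  rw [h0]
  apply eq_of_locally (cokernel θ) W _ 0
  intro y hy
  have h3 : gM (cokernel θ) y W hy ((cokernel.π θ).val.app (op W) s) =
      gM (cokernel θ) y W hy 0 := (hst y _).trans (hst y _).symm
  obtain ⟨W', hW', hWU, _, e⟩ := gM_eq y (cokernel θ) hy hy _ _ h3
  exact ⟨W', hWU, hW', e⟩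

end General

section Units

/-- a function whose pullback along a morphism hitting every point is invertible is invertible. -/
lemma isUnit_of_appLE {Z Z' : Scheme.{u}} (g : Z ⟶ Z') (W' : Z'.Opens) (W : Z.Opens)
    (e : W ≤ g ⁻¹ᵁ W') (hs : ∀ z' ∈ W', ∃ z ∈ W, g.base z = z') (s : Γ(Z', W'))
    (hu : IsUnit (g.appLE W' W e s)) : IsUnit s := by
  have hb : ∀ z' (_ : z' ∈ W'), z' ∈ Z'.basicOpen s := by
    intro z' hz'
    obtain ⟨z, hzW, rfl⟩ := hs z' hz'
    have h1 : Z.basicOpen (g.appLE W' W e s) = W := Z.basicOpen_of_isUnit hu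
    have h2 : z ∈ Z.basicOpen (g.appLE W' W e s) := by
      rw [h1]
      exact hzW
    rw [Scheme.basicOpen_appLE] at h2
    exact h2.2
  exact RingedSpace.isUnit_of_isUnit_germ Z'.toLocallyRingedSpace.toRingedSpace W' s
    (fun z' hz' => (Z'.mem_basicOpen s z' hz').mp (hb z' hz'))

end Units

section Formal
variable (𝔛 : FSch.Sys.{u}) (h : 𝔛.IsFormal)

lemma gInv_zero_apply (x : ↥(𝔛.X 0)) : (𝔛.gInv h 0) x = x := by
  have h1 := 𝔛.gInv_toX_base h 0
  have h2 : (𝔛.toX 0).base = 𝟙 _ := rfl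
  rw [h2, Category.comp_id] at h1
  exact congrArg (fun k : (𝔛.X 0).carrier ⟶ (𝔛.X 0).carrier => k x) h1

lemma lvU_zero (U : (𝔛.X 0).Opens) : (Opens.map (𝔛.gInv h 0)).obj U = U := by
  refine Opens.ext (Set.ext fun x => ?_)
  show (𝔛.gInv h 0) x ∈ U ↔ x ∈ U
  rw [gInv_zero_apply]

/-- a function on a level is invertible as soon as its restriction to the previous level is. -/
lemma isUnit_of_τ (U : (𝔛.X 0).Opens) (n : ℕ) (s : (𝔛.levelObj h (n + 1)).obj.obj (op U))
    (hu : IsUnit (ComplFlat.τ 𝔛 h U n s)) : IsUnit s := by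
  refine isUnit_of_appLE (𝔛.ι n) (𝔛.lvU h (n + 1) U) (𝔛.lvU h n U) (𝔛.lvU_le h n U) ?_ s hu
  intro z' hz'
  obtain ⟨z, rfl⟩ := (h n).2 z'
  refine ⟨z, ?_, rfl⟩
  have h1 : z ∈ (𝔛.ι n) ⁻¹ᵁ (𝔛.lvU h (n + 1) U) := hz'
  rw [𝔛.lvU_succ h n U] at h1
  exact h1

/-- a function on the formal scheme is invertible as soon as its restriction to the smallest
level is. -/
lemma isUnit_of_ρ_zero (U : (𝔛.X 0).Opens) (r : (𝔛.Osh h).obj.obj (op U))
    (hr : IsUnit (ComplFlat.ρ 𝔛 h U 0 r)) : IsUnit r := by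
  have hu : ∀ n, IsUnit (ComplFlat.ρ 𝔛 h U n r) := by
    intro n
    induction n with
    | zero => exact hr
    | succ n ih =>
      apply isUnit_of_τ 𝔛 h U n
      rw [ComplFlat.τ_ρ]
      exact ih
  choose t ht using fun n => (hu n).exists_left_inv
  have hcomp : ∀ n, ComplFlat.τ 𝔛 h U n (t (n + 1)) = t n := by
    intro n
    apply (hu n).mul_left_inj.mp
    rw [ht n, ← ComplFlat.τ_ρ 𝔛 h U n r, ← map_mul, ht (n + 1), map_one]
  obtain ⟨b, hb⟩ := ComplFlat.ρ_ex 𝔛 h U t hcomp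
  have hbr : b * r = 1 := by
    apply ComplFlat.ρ_inj 𝔛 h U
    intro n
    rw [map_mul, hb n, ht n, map_one]
  exact IsUnit.of_mul_eq_one b (by rw [mul_comm]; exact hbr)

/-- the map of the underlying spaces of `u_0`. -/
abbrev f₀ : (𝔛.X 0).carrier ⟶ (𝔛.X 0).carrier := 𝔛.gInv h 0

/-- the structure sheaf of the formal scheme. -/
abbrev OY : TopCat.Sheaf CommRingCat.{u} (𝔛.X 0).carrier := 𝔛.Osh h

/-- the structure sheaf of the smallest level. -/
abbrev OX : TopCat.Sheaf CommRingCat.{u} (𝔛.X 0).carrier := (𝔛.X 0).sheaf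

/-- the comorphism of `u_0`. -/
abbrev c₀ : OY 𝔛 h ⟶ ((Opens.map (f₀ 𝔛 h)).sheafPushforwardContinuous CommRingCat.{u}
    (Opens.grothendieckTopology (𝔛.X 0).carrier)
    (Opens.grothendieckTopology (𝔛.X 0).carrier)).obj (OX 𝔛) := 𝔛.OshProj h 0

/-- the stalk maps of `u_0` are surjective. -/
theorem stalkHom_surjective (x : ↥(𝔛.X 0)) :
    Function.Surjective (stalkHom (f₀ 𝔛 h) (c₀ 𝔛 h) x) := by
  intro γ
  obtain ⟨W, hxW, a, rfl⟩ := gR_surj (OX 𝔛) x γ
  obtain ⟨V, hVaff, hxV, hVW⟩ :=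
    (Opens.isBasis_iff_nbhd.mp (𝔛.X 0).isBasis_affineOpens) hxW
  have hfx : (f₀ 𝔛 h) x ∈ V := by
    rw [gInv_zero_apply]
    exact hxV
  have hle : (Opens.map (f₀ 𝔛 h)).obj V ≤ W := by
    rw [lvU_zero]
    exact hVW
  obtain ⟨r, hr⟩ := Groth.Agent.H2.OshSurj.main 𝔛 h V hVaff 0 (rr (OX 𝔛) hle a)
  refine ⟨gR (OY 𝔛 h) ((f₀ 𝔛 h) x) V hfx r, ?_⟩
  rw [stalkHom_gR]
  have h1 : sh (f₀ 𝔛 h) (c₀ 𝔛 h) V r = rr (OX 𝔛) hle a := hr
  rw [h1, gR_rr]

/-- a germ of function on the formal scheme whose image on the smallest level is `1` is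
invertible. -/
theorem isUnit_of_stalkHom_eq_one (x : ↥(𝔛.X 0)) (β : Ox (OY 𝔛 h) ((f₀ 𝔛 h) x))
    (hβ : stalkHom (f₀ 𝔛 h) (c₀ 𝔛 h) x β = 1) : IsUnit β := by
  obtain ⟨V, hV, r, rfl⟩ := gR_surj (OY 𝔛 h) ((f₀ 𝔛 h) x) β
  rw [stalkHom_gR] at hβ
  have h1 : gR (OX 𝔛) x ((Opens.map (f₀ 𝔛 h)).obj V) hV (sh (f₀ 𝔛 h) (c₀ 𝔛 h) V r) =
      gR (OX 𝔛) x ((Opens.map (f₀ 𝔛 h)).obj V) hV 1 := by
    rw [hβ, map_one]
  obtain ⟨W, hxW, hW1, hW2, e⟩ := gR_eq (OX 𝔛) x hV hV _ _ h1
  have hxV : x ∈ V := by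
    have h2 : (𝔛.gInv h 0) x ∈ V := hV
    rw [gInv_zero_apply] at h2
    exact h2
  have hle : (Opens.map (f₀ 𝔛 h)).obj (W ⊓ V) ≤ W := by
    rw [lvU_zero]
    exact inf_le_left
  have hfx' : (f₀ 𝔛 h) x ∈ W ⊓ V := by
    rw [gInv_zero_apply]
    exact ⟨hxW, hxV⟩
  have h2 : ComplFlat.ρ 𝔛 h (W ⊓ V) 0 (rr (OY 𝔛 h) (inf_le_right : W ⊓ V ≤ V) r) = 1 := by
    show sh (f₀ 𝔛 h) (c₀ 𝔛 h) (W ⊓ V) (rr (OY 𝔛 h) inf_le_right r) = 1
    rw [sh_rr]
    have h3 : rr (OX 𝔛) (preim_le (f₀ 𝔛 h) (inf_le_right : W ⊓ V ≤ V))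
        (sh (f₀ 𝔛 h) (c₀ 𝔛 h) V r) =
        rr (OX 𝔛) hle (rr (OX 𝔛) hW1 (sh (f₀ 𝔛 h) (c₀ 𝔛 h) V r)) := by
      rw [rr_rr]
    rw [h3, e, map_one, map_one]
  have h4 : IsUnit (rr (OY 𝔛 h) (inf_le_right : W ⊓ V ≤ V) r) := by
    apply isUnit_of_ρ_zero 𝔛 h (W ⊓ V)
    rw [h2]
    exact isUnit_one
  have h5 : gR (OY 𝔛 h) ((f₀ 𝔛 h) x) V hV r =
      gR (OY 𝔛 h) ((f₀ 𝔛 h) x) (W ⊓ V) hfx' (rr (OY 𝔛 h) inf_le_right r) :=
    (gR_rr (OY 𝔛 h) ((f₀ 𝔛 h) x) inf_le_right hfx' hV r).symm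
  rw [h5]
  exact h4.map _

/-- the kernels of the stalk maps of `u_0` lie in the Jacobson radical. -/
theorem ker_stalkHom_le_jacobson (x : ↥(𝔛.X 0)) :
    RingHom.ker (stalkHom (f₀ 𝔛 h) (c₀ 𝔛 h) x) ≤
      (⊥ : Ideal (Ox (OY 𝔛 h) ((f₀ 𝔛 h) x))).jacobson := by
  intro a ha
  rw [Ideal.mem_jacobson_bot]
  intro y
  apply isUnit_of_stalkHom_eq_one 𝔛 h x
  rw [map_add, map_mul, (RingHom.mem_ker).mp ha, zero_mul, zero_add, map_one]

/-- a morphism onto a module of finite type on a formal scheme is an epimorphism if and only if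
its pullback to the smallest level is. -/
theorem epi_iff (F G : FSch.ModF 𝔛 h)
    (hG : SheafOfModules.IsFiniteType (R := ModSite.ringSh (𝔛.Osh h)) G) (θ : F ⟶ G) :
    Epi θ ↔ Epi ((FSch.levelMor 𝔛 h 0).pull.map θ) := by
  haveI : (FSch.levelMor 𝔛 h 0).pull.Additive :=
    (FSch.levelMor 𝔛 h 0).adj.left_adjoint_additive
  constructor
  · intro hθ
    exact (Functor.preservesEpimorphisms_of_adjunction (FSch.levelMor 𝔛 h 0).adj).preserves θ
  · intro hE
    have h1 : (FSch.levelMor 𝔛 h 0).pull.map (cokernel.π θ) = 0 := by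
      have h2 : (FSch.levelMor 𝔛 h 0).pull.map θ ≫
          (FSch.levelMor 𝔛 h 0).pull.map (cokernel.π θ) = 0 := by
        rw [← Functor.map_comp, cokernel.condition, Functor.map_zero]
      exact (cancel_epi ((FSch.levelMor 𝔛 h 0).pull.map θ)).mp
        (h2.trans Limits.comp_zero.symm)
    have key : ∀ (N' : ModSite.Mod (𝔛.X 0).sheaf)
        (ψ : cokernel θ ⟶ (FSch.levelMor 𝔛 h 0).push.obj N'), ψ = 0 := by
      intro N' ψ
      obtain ⟨ψ', hψ⟩ : ∃ ψ' : (FSch.levelMor 𝔛 h 0).pull.obj (cokernel θ) ⟶ N',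
          ψ = (FSch.levelMor 𝔛 h 0).adj.unit.app (cokernel θ) ≫
            (FSch.levelMor 𝔛 h 0).push.map ψ' :=
        ⟨((FSch.levelMor 𝔛 h 0).adj.homEquiv (cokernel θ) N').symm ψ,
          (((FSch.levelMor 𝔛 h 0).adj.homEquiv (cokernel θ) N').apply_symm_apply ψ).symm.trans
            ((FSch.levelMor 𝔛 h 0).adj.homEquiv_unit _ _ _)⟩
      have h4 : cokernel.π θ ≫ (FSch.levelMor 𝔛 h 0).adj.unit.app (cokernel θ) =
          (FSch.levelMor 𝔛 h 0).adj.unit.app G ≫
            (FSch.levelMor 𝔛 h 0).push.map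
              ((FSch.levelMor 𝔛 h 0).pull.map (cokernel.π θ)) :=
        (FSch.levelMor 𝔛 h 0).adj.unit.naturality (cokernel.π θ)
      have h6 : (FSch.levelMor 𝔛 h 0).push.map
          ((FSch.levelMor 𝔛 h 0).pull.map (cokernel.π θ)) = 0 := by
        rw [h1]
        exact Functor.map_zero _ _ _
      have h5 : cokernel.π θ ≫ ψ = 0 :=
        calc cokernel.π θ ≫ ψ
            = cokernel.π θ ≫ ((FSch.levelMor 𝔛 h 0).adj.unit.app (cokernel θ) ≫
                (FSch.levelMor 𝔛 h 0).push.map ψ') := congrArg (fun k => cokernel.π θ ≫ k) hψ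
          _ = (cokernel.π θ ≫ (FSch.levelMor 𝔛 h 0).adj.unit.app (cokernel θ)) ≫
                (FSch.levelMor 𝔛 h 0).push.map ψ' := (Category.assoc _ _ _).symm
          _ = ((FSch.levelMor 𝔛 h 0).adj.unit.app G ≫ (FSch.levelMor 𝔛 h 0).push.map
                ((FSch.levelMor 𝔛 h 0).pull.map (cokernel.π θ))) ≫
                (FSch.levelMor 𝔛 h 0).push.map ψ' :=
              congrArg (fun k => k ≫ (FSch.levelMor 𝔛 h 0).push.map ψ') h4
          _ = 0 := by rw [h6, Limits.comp_zero, Limits.zero_comp]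
      exact (cancel_epi (cokernel.π θ)).mp (h5.trans Limits.comp_zero.symm)
    exact epi_of_push_hom_zero (f₀ 𝔛 h) (c₀ 𝔛 h) (fun y => ⟨y, gInv_zero_apply 𝔛 h y⟩)
      (stalkHom_surjective 𝔛 h) (ker_stalkHom_le_jacobson 𝔛 h) θ hG key

end Formal

end Groth.Agent.LD.FCompl.EpiLevel
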