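import Groth.Agent.Lib.Lead.FCompl.EpiLevel
import Groth.Agent.Lib.Lead.MS.PullFree
import Groth.Agent.S2292

/-! # The ideals of definition of a locally Noetherian formal scheme are of finite type.

For a formal scheme presented by an adic system of locally Noetherian thickenings, the kernel of
`O_𝔛 ⟶ (u_n)_* u_n^* O_𝔛` is an `O_𝔛`-module of finite type.  Over an affine open `U` the ring
`Γ(U, O_𝔛)` is the limit of an adic tower of rings (statement `S2292`), so the kernel of the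
projection to the level `n` is a finitely generated ideal; these kernels are compatible with
restriction to the opens corresponding to the basic opens of the first level (localisation and
Nakayama). -/

universe u
open CategoryTheory Limits Opposite TopologicalSpace AlgebraicGeometry

noncomputable section

namespace Groth.Agent.LD.FCompl.IdealFT

open Groth.Agent.LD.RSp Groth.Agent.LD.RSp.Sky Groth.Agent.LD.RSp.ComplFlat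
  Groth.Agent.LD.FCompl.EpiLevel

section Alg

/-- the kernel of the localisation of a ring map is generated by the kernel. -/
lemma ker_le_map_ker {B₁ B₀ B₁' B₀' : Type*} [CommRing B₁] [CommRing B₀] [CommRing B₁']
    [CommRing B₀'] (u : B₁ →+* B₀) (u' : B₁' →+* B₀') (r₁ : B₁ →+* B₁') (r₀ : B₀ →+* B₀')
    (hsq : ∀ b, u' (r₁ b) = r₀ (u b)) (f : B₁) (hunit : IsUnit (r₁ f))
    (hsurj : ∀ b' : B₁', ∃ (k : ℕ) (b : B₁), b' * r₁ f ^ k = r₁ b)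
    (hinj : ∀ c : B₀, r₀ c = 0 → ∃ m : ℕ, u f ^ m * c = 0) :
    RingHom.ker u' ≤ (RingHom.ker u).map r₁ := by
  intro b' hb'
  obtain ⟨k, b, hb⟩ := hsurj b'
  have h1 : r₀ (u b) = 0 := by
    rw [← hsq, ← hb, map_mul, (RingHom.mem_ker).mp hb', zero_mul]
  obtain ⟨m, hm⟩ := hinj (u b) h1
  have h2 : f ^ m * b ∈ RingHom.ker u := by
    rw [RingHom.mem_ker, map_mul, map_pow]
    exact hm
  have h3 : b' * r₁ f ^ (k + m) = r₁ (f ^ m * b) := by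
    rw [pow_add, ← mul_assoc, hb, map_mul, map_pow, mul_comm]
  obtain ⟨w, hw⟩ := (hunit.pow (k + m)).exists_right_inv
  have h4 : b' = r₁ (f ^ m * b) * w := by
    rw [← h3, mul_assoc, hw, mul_one]
  rw [h4]
  exact Ideal.mul_mem_right _ _ (Ideal.mem_map_of_mem r₁ h2)

/-- the kernels to the smallest level are compatible with a restriction map which is a
localisation on the first level. -/
lemma ker_eq_map_of_tower {A A' B₁ B₀ B₁' B₀' : Type*} [CommRing A] [CommRing A'] [CommRing B₁]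
    [CommRing B₀] [CommRing B₁'] [CommRing B₀']
    (ρ₁ : A →+* B₁) (ρ₀ : A →+* B₀) (ρ₁' : A' →+* B₁') (ρ₀' : A' →+* B₀')
    (u : B₁ →+* B₀) (u' : B₁' →+* B₀') (r : A →+* A') (r₁ : B₁ →+* B₁') (r₀ : B₀ →+* B₀')
    (h0 : ∀ a, u (ρ₁ a) = ρ₀ a) (h0' : ∀ a, u' (ρ₁' a) = ρ₀' a)
    (hr1 : ∀ a, ρ₁' (r a) = r₁ (ρ₁ a)) (hr0 : ∀ a, ρ₀' (r a) = r₀ (ρ₀ a))
    (hs : Function.Surjective ρ₁) (hs' : Function.Surjective ρ₁')
    (hk' : RingHom.ker ρ₁' = RingHom.ker ρ₀' ^ 2)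
    (hloc : RingHom.ker u' ≤ (RingHom.ker u).map r₁)
    (hfg : (RingHom.ker ρ₀').FG) (hjac : RingHom.ker ρ₀' ≤ (⊥ : Ideal A').jacobson) :
    RingHom.ker ρ₀' = (RingHom.ker ρ₀).map r := by
  apply le_antisymm
  · have hP : ∀ b' ∈ Submodule.span B₁' (r₁ '' (RingHom.ker u : Set B₁)),
        ∃ a'' ∈ (RingHom.ker ρ₀).map r, ρ₁' a'' = b' := by
      intro b' hb
      refine Submodule.span_induction
        (p := fun b' _ => ∃ a'' ∈ (RingHom.ker ρ₀).map r, ρ₁' a'' = b') ?_ ?_ ?_ ?_ hb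
      · rintro _ ⟨b, hb, rfl⟩
        obtain ⟨a, rfl⟩ := hs b
        refine ⟨r a, Ideal.mem_map_of_mem r ?_, hr1 a⟩
        rw [RingHom.mem_ker, ← h0]
        exact hb
      · exact ⟨0, Ideal.zero_mem _, map_zero _⟩
      · rintro x y - - ⟨a₁, h₁, rfl⟩ ⟨a₂, h₂, rfl⟩
        exact ⟨a₁ + a₂, Ideal.add_mem _ h₁ h₂, map_add _ _ _⟩
      · rintro c x - ⟨a₁, h₁, rfl⟩
        obtain ⟨γ, rfl⟩ := hs' c
        refine ⟨γ * a₁, Ideal.mul_mem_left _ _ h₁, ?_⟩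
        rw [smul_eq_mul, map_mul]
    have key : RingHom.ker ρ₀' ≤ (RingHom.ker ρ₀).map r ⊔ RingHom.ker ρ₀' • RingHom.ker ρ₀' := by
      intro a' ha'
      have hb' : ρ₁' a' ∈ RingHom.ker u' := by
        rw [RingHom.mem_ker, h0']
        exact ha'
      obtain ⟨a'', ha'', he⟩ := hP _ (hloc hb')
      have h2 : a' - a'' ∈ RingHom.ker ρ₀' • RingHom.ker ρ₀' := by
        have h3 : a' - a'' ∈ RingHom.ker ρ₁' := by
          rw [RingHom.mem_ker, map_sub, he, sub_self]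
        rw [hk', sq] at h3
        exact h3
      have h4 : a' = a'' + (a' - a'') := by ring
      rw [h4]
      exact Submodule.add_mem_sup ha'' h2
    exact Submodule.le_of_le_smul_of_le_jacobson_bot hfg hjac key
  · rw [Ideal.map_le_iff_le_comap]
    intro a ha
    rw [Ideal.mem_comap, RingHom.mem_ker, hr0, (RingHom.mem_ker).mp ha, map_zero]

end Alg

section Sch

/-- the sections over an open equal to a basic open of an affine open form the localisation. -/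
lemma away_props {X : Scheme.{u}} {U : X.Opens} (hU : IsAffineOpen U) (f : Γ(X, U))
    (D : X.Opens) (hD : D = X.basicOpen f) (hle : D ≤ U) :
    IsUnit (X.presheaf.map (homOfLE hle).op f) ∧
      (∀ b' : Γ(X, D), ∃ (k : ℕ) (b : Γ(X, U)),
        b' * (X.presheaf.map (homOfLE hle).op f) ^ k = X.presheaf.map (homOfLE hle).op b) ∧
      (∀ c : Γ(X, U), X.presheaf.map (homOfLE hle).op c = 0 → ∃ m : ℕ, f ^ m * c = 0) := by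
  subst hD
  haveI := hU.isLocalization_basicOpen f
  refine ⟨IsLocalization.Away.algebraMap_isUnit f, fun b' => IsLocalization.Away.surj f b',
    fun c hc => ?_⟩
  have h1 : algebraMap Γ(X, U) Γ(X, X.basicOpen f) c = algebraMap Γ(X, U) Γ(X, X.basicOpen f) 0 := by
    rw [map_zero]
    exact hc
  obtain ⟨m, hm⟩ := IsLocalization.Away.exists_of_eq f h1
  exact ⟨m, by rw [hm, mul_zero]⟩

lemma id_appLE' (X : Scheme.{u}) (V : X.Opens) (e : V ≤ (𝟙 X : X ⟶ X) ⁻¹ᵁ V) :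
    (𝟙 X : X ⟶ X).appLE V V e = 𝟙 _ := by
  have h1 : (𝟙 X : X ⟶ X).appLE V V e = X.presheaf.map (homOfLE e).op := by
    simp [Scheme.Hom.appLE] <;> exact Category.id_comp _
  rw [h1]
  exact X.presheaf.map_id (op V)

end Sch

section Formal
variable (𝔛 : FSch.Sys.{u}) (h : 𝔛.IsFormal)

lemma toX_preimage_lvU (n : ℕ) (U : (𝔛.X 0).Opens) :
    (𝔛.toX n) ⁻¹ᵁ (𝔛.lvU h n U) = U := by
  change (Opens.map ((𝔛.toX n).base ≫ 𝔛.gInv h n)).obj U = U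
  rw [FSch.Sys.toX_base_gInv]
  rfl

lemma le_v (n : ℕ) (U : (𝔛.X 0).Opens) :
    𝔛.lvU h 0 U ≤ (𝔛.toX n) ⁻¹ᵁ (𝔛.lvU h n U) := by
  rw [toX_preimage_lvU]
  exact (lvU_zero 𝔛 h U).le

/-- the maps from the levels to the smallest level, on sections over `U`. -/
def vmap (U : (𝔛.X 0).Opens) (n : ℕ) :
    ((𝔛.levelObj h n).obj.obj (op U)) →+* ((𝔛.levelObj h 0).obj.obj (op U)) :=
  ((𝔛.toX n).appLE (𝔛.lvU h n U) (𝔛.lvU h 0 U) (le_v 𝔛 h n U)).hom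

lemma vmap_zero (U : (𝔛.X 0).Opens) : vmap 𝔛 h U 0 = RingHom.id _ := by
  have h1 : (𝔛.toX 0).appLE (𝔛.lvU h 0 U) (𝔛.lvU h 0 U) (le_v 𝔛 h 0 U) = 𝟙 _ :=
    id_appLE' (𝔛.X 0) (𝔛.lvU h 0 U) (le_v 𝔛 h 0 U)
  exact congrArg CommRingCat.Hom.hom h1

lemma vmap_comp (U : (𝔛.X 0).Opens) (n : ℕ) :
    (vmap 𝔛 h U n).comp (τ 𝔛 h U n) = vmap 𝔛 h U (n + 1) := by
  have h1 := Scheme.Hom.appLE_comp_appLE (𝔛.toX n) (𝔛.ι n) (𝔛.lvU h (n + 1) U)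
    (𝔛.lvU h n U) (𝔛.lvU h 0 U) (𝔛.lvU_le h n U) (le_v 𝔛 h n U)
  exact congrArg CommRingCat.Hom.hom h1

lemma ker_τ (hA : 𝔛.IsAdic) (U : (𝔛.X 0).Opens) (hU : IsAffineOpen U) (n : ℕ) :
    RingHom.ker (τ 𝔛 h U n) = RingHom.ker (vmap 𝔛 h U (n + 1)) ^ (n + 1) := by
  haveI := (h n).1
  haveI := 𝔛.toX_isClosedImmersion h (n + 1)
  have haff := Groth.Agent.H2.OshSurj.isAffineOpen_lvU 𝔛 h U hU (n + 1)
  have e1 : RingHom.ker (τ 𝔛 h U n) =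
      RingHom.ker ((𝔛.ι n).app (𝔛.lvU h (n + 1) U)).hom :=
    (appLE_surj_ker (𝔛.ι n) (𝔛.lvU h (n + 1) U) (𝔛.lvU h n U) (𝔛.lvU_le h n U)
      (𝔛.lvU_succ h n U).symm).2
  have e2 : RingHom.ker (vmap 𝔛 h U (n + 1)) =
      RingHom.ker ((𝔛.toX (n + 1)).app (𝔛.lvU h (n + 1) U)).hom :=
    (appLE_surj_ker (𝔛.toX (n + 1)) (𝔛.lvU h (n + 1) U) (𝔛.lvU h 0 U) (le_v 𝔛 h (n + 1) U)
      ((lvU_zero 𝔛 h U).trans (toX_preimage_lvU 𝔛 h (n + 1) U).symm)).2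
  have e3 : (𝔛.ι n).ker.ideal ⟨𝔛.lvU h (n + 1) U, haff⟩ =
      ((𝔛.toX (n + 1)).ker.ideal ⟨𝔛.lvU h (n + 1) U, haff⟩) ^ (n + 1) :=
    congrArg (fun I : (𝔛.X (n + 1)).IdealSheafData => I.ideal ⟨𝔛.lvU h (n + 1) U, haff⟩) (hA n)
  rw [Scheme.Hom.ker_apply, Scheme.Hom.ker_apply] at e3
  rw [e1, e2]
  exact e3

lemma fg_ker_v1 (hN : ∀ n, IsLocallyNoetherian (𝔛.X n)) (U : (𝔛.X 0).Opens)
    (hU : IsAffineOpen U) : (RingHom.ker (vmap 𝔛 h U 1)).FG := by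
  haveI := hN 1
  have h1 : IsNoetherianRing Γ(𝔛.X 1, 𝔛.lvU h 1 U) :=
    IsLocallyNoetherian.component_noetherian
      ⟨𝔛.lvU h 1 U, Groth.Agent.H2.OshSurj.isAffineOpen_lvU 𝔛 h U hU 1⟩
  exact (isNoetherianRing_iff_ideal_fg Γ(𝔛.X 1, 𝔛.lvU h 1 U)).mp h1 (RingHom.ker (vmap 𝔛 h U 1))

/-- over an affine open the sections of the structure sheaf of the formal scheme form an adic
ring, the projection to the level `n` being surjective with kernel the `(n+1)`-st power of a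
finitely generated ideal. -/
theorem tower (hA : 𝔛.IsAdic) (hN : ∀ n, IsLocallyNoetherian (𝔛.X n)) (U : (𝔛.X 0).Opens)
    (hU : IsAffineOpen U) :
    IsAdicComplete (RingHom.ker (ρ 𝔛 h U 0)) ((𝔛.Osh h).obj.obj (op U)) ∧
      (∀ n, Function.Surjective (ρ 𝔛 h U n) ∧
        RingHom.ker (ρ 𝔛 h U n) = RingHom.ker (ρ 𝔛 h U 0) ^ (n + 1)) ∧
      (RingHom.ker (ρ 𝔛 h U 0)).FG :=
  Groth.Agent.S2292.result
    (fun n => (((𝔛.levelObj h n).obj.obj (op U) : CommRingCat.{u}) : Type u)) (τ 𝔛 h U)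
    (fun n => by
      haveI := (h n).1
      exact Groth.Agent.H2.OshSurj.surj_appLE (𝔛.ι n) (𝔛.lvU h (n + 1) U)
        (Groth.Agent.H2.OshSurj.isAffineOpen_lvU 𝔛 h U hU (n + 1)) (𝔛.lvU h n U)
        (𝔛.lvU_le h n U) (𝔛.lvU_succ h n U).le)
    (vmap 𝔛 h U) (vmap_zero 𝔛 h U) (vmap_comp 𝔛 h U) (ker_τ 𝔛 h hA U hU)
    (fg_ker_v1 𝔛 h hN U hU)
    (((𝔛.Osh h).obj.obj (op U) : CommRingCat.{u}) : Type u) (ρ 𝔛 h U)
    (fun n => RingHom.ext (τ_ρ 𝔛 h U n))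
    (fun x hx => ρ_inj 𝔛 h U x 0 (fun n => by rw [hx n, map_zero]))
    (fun y hy => ρ_ex 𝔛 h U y hy)

/-- restriction of functions on the formal scheme. -/
def rO {U V : (𝔛.X 0).Opens} (hle : V ≤ U) :
    ((𝔛.Osh h).obj.obj (op U)) →+* ((𝔛.Osh h).obj.obj (op V)) := rr (𝔛.Osh h) hle

/-- restriction of functions on a level. -/
def rL (k : ℕ) {U V : (𝔛.X 0).Opens} (hle : V ≤ U) :
    ((𝔛.levelObj h k).obj.obj (op U)) →+* ((𝔛.levelObj h k).obj.obj (op V)) :=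
  rr (𝔛.levelObj h k) hle

lemma ρ_rr {U V : (𝔛.X 0).Opens} (hle : V ≤ U) (k : ℕ) (a : (𝔛.Osh h).obj.obj (op U)) :
    ρ 𝔛 h V k (rO 𝔛 h hle a) = rL 𝔛 h k hle (ρ 𝔛 h U k a) := by
  have := congrArg (fun φ => φ.hom a) ((𝔛.OshProj h k).hom.naturality (homOfLE hle).op)
  exact this

lemma τ_rr {U V : (𝔛.X 0).Opens} (hle : V ≤ U) (k : ℕ)
    (b : (𝔛.levelObj h (k + 1)).obj.obj (op U)) :
    τ 𝔛 h V k (rL 𝔛 h (k + 1) hle b) = rL 𝔛 h k hle (τ 𝔛 h U k b) := by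
  have := congrArg (fun φ => φ.hom b) ((𝔛.levelMap h k).hom.naturality (homOfLE hle).op)
  exact this

/-- the open of the smallest level corresponding to a basic open of the first level. -/
abbrev Vb (U : (𝔛.X 0).Opens) (f₁ : Γ(𝔛.X 1, 𝔛.lvU h 1 U)) : (𝔛.X 0).Opens :=
  (𝔛.toX 1) ⁻¹ᵁ ((𝔛.X 1).basicOpen f₁)

lemma Vb_le (U : (𝔛.X 0).Opens) (f₁ : Γ(𝔛.X 1, 𝔛.lvU h 1 U)) : Vb 𝔛 h U f₁ ≤ U := by
  intro x hx
  have h1 : x ∈ (𝔛.toX 1) ⁻¹ᵁ (𝔛.lvU h 1 U) := (𝔛.X 1).basicOpen_le f₁ hx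
  rw [toX_preimage_lvU] at h1
  exact h1

lemma isAffineOpen_Vb (U : (𝔛.X 0).Opens) (hU : IsAffineOpen U)
    (f₁ : Γ(𝔛.X 1, 𝔛.lvU h 1 U)) : IsAffineOpen (Vb 𝔛 h U f₁) := by
  haveI := 𝔛.toX_isClosedImmersion h 1
  exact ((Groth.Agent.H2.OshSurj.isAffineOpen_lvU 𝔛 h U hU 1).basicOpen f₁).preimage (𝔛.toX 1)

lemma lvU_one_Vb (U : (𝔛.X 0).Opens) (f₁ : Γ(𝔛.X 1, 𝔛.lvU h 1 U)) :
    𝔛.lvU h 1 (Vb 𝔛 h U f₁) = (𝔛.X 1).basicOpen f₁ := by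
  change (Opens.map (𝔛.gInv h 1 ≫ (𝔛.toX 1).base)).obj ((𝔛.X 1).basicOpen f₁) = _
  rw [FSch.Sys.gInv_toX_base]
  rfl

lemma lvU_zero_Vb (U : (𝔛.X 0).Opens) (f₁ : Γ(𝔛.X 1, 𝔛.lvU h 1 U)) :
    𝔛.lvU h 0 (Vb 𝔛 h U f₁) = (𝔛.X 0).basicOpen (U := 𝔛.lvU h 0 U) (τ 𝔛 h U 0 f₁) := by
  have h1 : (𝔛.X 0).basicOpen (U := 𝔛.lvU h 0 U) (τ 𝔛 h U 0 f₁) =
      𝔛.lvU h 0 U ⊓ (𝔛.ι 0) ⁻¹ᵁ (𝔛.X 1).basicOpen f₁ :=
    Scheme.basicOpen_appLE (𝔛.ι 0) (𝔛.lvU h 0 U) (𝔛.lvU h 1 U) (𝔛.lvU_le h 0 U) f₁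
  rw [h1]
  refine Opens.ext (Set.ext fun x => ?_)
  constructor
  · intro hx
    have hx0 : (𝔛.gInv h 0) x ∈ Vb 𝔛 h U f₁ := hx
    rw [gInv_zero_apply] at hx0
    have hx' : (𝔛.ι 0).base x ∈ (𝔛.X 1).basicOpen f₁ := hx0
    refine ⟨?_, hx'⟩
    have h2 : x ∈ (𝔛.ι 0) ⁻¹ᵁ (𝔛.lvU h 1 U) := (𝔛.X 1).basicOpen_le f₁ hx'
    rw [𝔛.lvU_succ h 0 U] at h2
    exact h2
  · intro hx
    have hx' : (𝔛.ι 0).base x ∈ (𝔛.X 1).basicOpen f₁ := hx.2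
    have hx0 : x ∈ Vb 𝔛 h U f₁ := hx'
    show (𝔛.gInv h 0) x ∈ Vb 𝔛 h U f₁
    rw [gInv_zero_apply]
    exact hx0

/-- the kernel to the smallest level is compatible with restriction to the open corresponding
to a basic open of the first level. -/
theorem ker_ρ_zero_Vb (hA : 𝔛.IsAdic) (hN : ∀ n, IsLocallyNoetherian (𝔛.X n))
    (U : (𝔛.X 0).Opens) (hU : IsAffineOpen U) (f₁ : Γ(𝔛.X 1, 𝔛.lvU h 1 U)) :
    RingHom.ker (ρ 𝔛 h (Vb 𝔛 h U f₁) 0) =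
      (RingHom.ker (ρ 𝔛 h U 0)).map (rO 𝔛 h (Vb_le 𝔛 h U f₁)) := by
  obtain ⟨-, hk, -⟩ := tower 𝔛 h hA hN U hU
  obtain ⟨hc', hk', hfg'⟩ := tower 𝔛 h hA hN (Vb 𝔛 h U f₁) (isAffineOpen_Vb 𝔛 h U hU f₁)
  have hle := Vb_le 𝔛 h U f₁
  have hle1 : 𝔛.lvU h 1 (Vb 𝔛 h U f₁) ≤ 𝔛.lvU h 1 U := fun z hz => hle hz
  have hle0 : 𝔛.lvU h 0 (Vb 𝔛 h U f₁) ≤ 𝔛.lvU h 0 U := fun z hz => hle hz
  obtain ⟨hunit, hsurj, -⟩ := away_props (Groth.Agent.H2.OshSurj.isAffineOpen_lvU 𝔛 h U hU 1)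
    f₁ _ (lvU_one_Vb 𝔛 h U f₁) hle1
  obtain ⟨-, -, hinj⟩ := away_props (Groth.Agent.H2.OshSurj.isAffineOpen_lvU 𝔛 h U hU 0)
    (τ 𝔛 h U 0 f₁) _ (lvU_zero_Vb 𝔛 h U f₁) hle0
  have hloc : RingHom.ker (τ 𝔛 h (Vb 𝔛 h U f₁) 0) ≤
      (RingHom.ker (τ 𝔛 h U 0)).map (rL 𝔛 h 1 hle) :=
    ker_le_map_ker (τ 𝔛 h U 0) (τ 𝔛 h (Vb 𝔛 h U f₁) 0) (rL 𝔛 h 1 hle)
      (rL 𝔛 h 0 hle) (fun b => τ_rr 𝔛 h hle 0 b) f₁ hunit hsurj hinj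
  haveI := hc'
  exact ker_eq_map_of_tower (ρ 𝔛 h U 1) (ρ 𝔛 h U 0) (ρ 𝔛 h (Vb 𝔛 h U f₁) 1)
    (ρ 𝔛 h (Vb 𝔛 h U f₁) 0) (τ 𝔛 h U 0) (τ 𝔛 h (Vb 𝔛 h U f₁) 0)
    (rO 𝔛 h hle) (rL 𝔛 h 1 hle) (rL 𝔛 h 0 hle)
    (τ_ρ 𝔛 h U 0) (τ_ρ 𝔛 h (Vb 𝔛 h U f₁) 0) (fun a => ρ_rr 𝔛 h hle 1 a)
    (fun a => ρ_rr 𝔛 h hle 0 a) (hk 1).1 (hk' 1).1 (hk' 1).2 hloc hfg'
    (IsAdicComplete.le_jacobson_bot _)

theorem ker_ρ_Vb (hA : 𝔛.IsAdic) (hN : ∀ n, IsLocallyNoetherian (𝔛.X n))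
    (U : (𝔛.X 0).Opens) (hU : IsAffineOpen U) (f₁ : Γ(𝔛.X 1, 𝔛.lvU h 1 U)) (n : ℕ) :
    RingHom.ker (ρ 𝔛 h (Vb 𝔛 h U f₁) n) =
      (RingHom.ker (ρ 𝔛 h U n)).map (rO 𝔛 h (Vb_le 𝔛 h U f₁)) := by
  obtain ⟨-, hk, -⟩ := tower 𝔛 h hA hN U hU
  obtain ⟨-, hk', -⟩ := tower 𝔛 h hA hN (Vb 𝔛 h U f₁) (isAffineOpen_Vb 𝔛 h U hU f₁)
  exact (hk' n).2.trans ((congrArg (fun I => I ^ (n + 1)) (ker_ρ_zero_Vb 𝔛 h hA hN U hU f₁)).trans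
    ((Ideal.map_pow _ _ _).symm.trans (congrArg (Ideal.map _) (hk n).2.symm)))

section Kernel
variable (n : ℕ)

/-- the unit of the structure sheaf for the level `n`. -/
abbrev ηn : FSch.unitF 𝔛 h ⟶
    (FSch.levelMor 𝔛 h n).push.obj ((FSch.levelMor 𝔛 h n).pull.obj (FSch.unitF 𝔛 h)) :=
  (FSch.levelMor 𝔛 h n).adj.unit.app (FSch.unitF 𝔛 h)

lemma η_comp : ηn 𝔛 h n ≫ (FSch.levelMor 𝔛 h n).push.map
      (SheafOfModules.pullbackObjUnitToUnit (FSch.levelMor 𝔛 h n).sharpR) =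
    SheafOfModules.unitToPushforwardObjUnit (FSch.levelMor 𝔛 h n).sharpR := by
  have h1 := SheafOfModules.pullbackPushforwardAdjunction_homEquiv_pullbackObjUnitToUnit
    (FSch.levelMor 𝔛 h n).sharpR
  rw [Adjunction.homEquiv_unit] at h1
  exact h1

lemma η_app_eq_zero_iff (V : (𝔛.X 0).Opens) (a : (𝔛.Osh h).obj.obj (op V)) :
    (ηn 𝔛 h n).val.app (op V) a = 0 ↔ ρ 𝔛 h V n a = 0 := by
  have h1 : ((FSch.levelMor 𝔛 h n).push.map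
      (SheafOfModules.pullbackObjUnitToUnit (FSch.levelMor 𝔛 h n).sharpR)).val.app (op V)
      ((ηn 𝔛 h n).val.app (op V) a) = ρ 𝔛 h V n a :=
    congrArg (fun k => k.val.app (op V) a) (η_comp 𝔛 h n)
  haveI := Groth.Agent.LD.PullFree.isIso_pullUnit (FSch.levelMor 𝔛 h n)
  constructor
  · intro h0
    exact h1.symm.trans ((congrArg (fun z => ((FSch.levelMor 𝔛 h n).push.map
      (SheafOfModules.pullbackObjUnitToUnit (FSch.levelMor 𝔛 h n).sharpR)).val.app (op V) z)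
      h0).trans (map_zero _))
  · intro h0
    apply injective_of_mono ((FSch.levelMor 𝔛 h n).push.map
      (SheafOfModules.pullbackObjUnitToUnit (FSch.levelMor 𝔛 h n).sharpR)) V
    exact h1.trans (h0.trans (map_zero _).symm)

/-- the ideal of definition of level `n`. -/
abbrev Kn : FSch.ModF 𝔛 h := kernel (ηn 𝔛 h n)

lemma ρ_ι_eq_zero (V : (𝔛.X 0).Opens) (t : ModSite.sect (Kn 𝔛 h n) V) :
    ρ 𝔛 h V n ((kernel.ι (ηn 𝔛 h n)).val.app (op V) t) = 0 := by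
  refine (η_app_eq_zero_iff 𝔛 h n V _).mp ?_
  exact congrArg (fun k => k.val.app (op V) t) (kernel.condition (ηn 𝔛 h n))

lemma exists_local_lift (V : (𝔛.X 0).Opens) (a : (𝔛.Osh h).obj.obj (op V))
    (ha : ρ 𝔛 h V n a = 0) (y : ↥(𝔛.X 0)) (hy : y ∈ V) :
    ∃ (W : (𝔛.X 0).Opens) (hW : W ≤ V), y ∈ W ∧ ∃ t : ModSite.sect (Kn 𝔛 h n) W,
      (kernel.ι (ηn 𝔛 h n)).val.app (op W) t = res (O := 𝔛.Osh h) (FSch.unitF 𝔛 h) hW a :=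
  exists_local_preimage_of_exact (O := 𝔛.Osh h) (ShortComplex.exact_kernel (ηn 𝔛 h n)) V a
    ((η_app_eq_zero_iff 𝔛 h n V a).mpr ha) y hy

/-- the ideals of definition of a locally Noetherian formal scheme are of finite type. -/
theorem isFiniteType_Kn (hA : 𝔛.IsAdic) (hN : ∀ n, IsLocallyNoetherian (𝔛.X n)) :
    SheafOfModules.IsFiniteType (R := ModSite.ringSh (𝔛.Osh h)) (Kn 𝔛 h n) := by
  refine (isFiniteType_iff (O := 𝔛.Osh h) (Kn 𝔛 h n)).mpr ?_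
  intro x
  obtain ⟨U₀, hU₀, hxU₀, -⟩ :=
    (Opens.isBasis_iff_nbhd.mp (𝔛.X 0).isBasis_affineOpens) (Opens.mem_top x)
  obtain ⟨-, hk, hfg⟩ := tower 𝔛 h hA hN U₀ hU₀
  have hfgn : (RingHom.ker (ρ 𝔛 h U₀ n)).FG := by
    rw [(hk n).2]
    exact hfg.pow
  obtain ⟨S, hS⟩ := hfgn
  have hSker : ∀ j : {z // z ∈ S}, ρ 𝔛 h U₀ n j.1 = 0 := by
    intro j
    have h1 : j.1 ∈ RingHom.ker (ρ 𝔛 h U₀ n) := by
      rw [← hS]
      exact Ideal.subset_span j.2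
    exact h1
  obtain ⟨W, hWU, hxW, hP⟩ := exists_common_nbhd (X := (𝔛.X 0).carrier) x U₀ hxU₀
    (fun (j : {z // z ∈ S}) W => ∃ (hW : W ≤ U₀) (t : ModSite.sect (Kn 𝔛 h n) W),
      (kernel.ι (ηn 𝔛 h n)).val.app (op W) t =
        res (O := 𝔛.Osh h) (FSch.unitF 𝔛 h) hW j.1)
    (by
      rintro j W W' hW' ⟨hW, t, ht⟩
      refine ⟨hW'.trans hW, res (O := 𝔛.Osh h) (Kn 𝔛 h n) hW' t, ?_⟩
      rw [app_res, ht, res_res])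
    (by
      intro j
      obtain ⟨W, hW, hxW, t, ht⟩ := exists_local_lift 𝔛 h n U₀ j.1 (hSker j) x hxU₀
      exact ⟨W, hW, hxW, hW, t, ht⟩)
  choose hW' t ht using hP
  refine ⟨W, hxW, {z // z ∈ S}, inferInstance, t, ?_⟩
  intro V hV s y hy
  have hc : ρ 𝔛 h V n ((kernel.ι (ηn 𝔛 h n)).val.app (op V) s) = 0 := ρ_ι_eq_zero 𝔛 h n V s
  have hVU : V ≤ U₀ := hV.trans hWU
  have hy1V : (𝔛.toX 1).base y ∈ 𝔛.lvU h 1 V := by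
    have h1 : y ∈ (𝔛.toX 1) ⁻¹ᵁ (𝔛.lvU h 1 V) := by
      rw [toX_preimage_lvU]
      exact hy
    exact h1
  have hy1U : (𝔛.toX 1).base y ∈ 𝔛.lvU h 1 U₀ :=
    (show 𝔛.lvU h 1 V ≤ 𝔛.lvU h 1 U₀ from fun z hz => hVU hz) hy1V
  obtain ⟨f₁, hf₁le, hyf₁⟩ :=
    (Groth.Agent.H2.OshSurj.isAffineOpen_lvU 𝔛 h U₀ hU₀ 1).exists_basicOpen_le
      (V := 𝔛.lvU h 1 V) ⟨(𝔛.toX 1).base y, hy1V⟩ hy1U
  have hV'V : Vb 𝔛 h U₀ f₁ ≤ V := by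
    intro z hz
    have h1 : z ∈ (𝔛.toX 1) ⁻¹ᵁ (𝔛.lvU h 1 V) := hf₁le hz
    rw [toX_preimage_lvU] at h1
    exact h1
  have hyV' : y ∈ Vb 𝔛 h U₀ f₁ := hyf₁
  have hV'U := Vb_le 𝔛 h U₀ f₁
  refine ⟨Vb 𝔛 h U₀ f₁, hV'V, hyV', ?_⟩
  have hz : ρ 𝔛 h (Vb 𝔛 h U₀ f₁) n
      (rO 𝔛 h hV'V ((kernel.ι (ηn 𝔛 h n)).val.app (op V) s)) = 0 :=
    (ρ_rr 𝔛 h hV'V n _).trans ((congrArg (rL 𝔛 h n hV'V) hc).trans (map_zero _))
  have hmem : rO 𝔛 h hV'V ((kernel.ι (ηn 𝔛 h n)).val.app (op V) s) ∈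
      RingHom.ker (ρ 𝔛 h (Vb 𝔛 h U₀ f₁) n) := (RingHom.mem_ker).mpr hz
  rw [ker_ρ_Vb 𝔛 h hA hN U₀ hU₀ f₁ n, ← hS, Ideal.map_span] at hmem
  have himg : (rO 𝔛 h hV'U) '' (↑S : Set ((𝔛.Osh h).obj.obj (op U₀))) =
      Set.range (fun j : {z // z ∈ S} => rO 𝔛 h hV'U j.1) := by
    ext z
    constructor
    · rintro ⟨a, ha, rfl⟩
      exact ⟨⟨a, ha⟩, rfl⟩
    · rintro ⟨j, rfl⟩
      exact ⟨j.1, j.2, rfl⟩
  rw [himg] at hmem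
  obtain ⟨γ, hγ⟩ := (Submodule.mem_span_range_iff_exists_fun _).mp hmem
  refine ⟨γ, ?_⟩
  apply injective_of_mono (kernel.ι (ηn 𝔛 h n)) (Vb 𝔛 h U₀ f₁)
  have hL : (kernel.ι (ηn 𝔛 h n)).val.app (op (Vb 𝔛 h U₀ f₁))
      (res (O := 𝔛.Osh h) (Kn 𝔛 h n) hV'V s) =
      ∑ j, γ j • res (O := 𝔛.Osh h) (FSch.unitF 𝔛 h) hV'U j.1 := by
    rw [app_res]
    exact hγ.symm
  have hR : (kernel.ι (ηn 𝔛 h n)).val.app (op (Vb 𝔛 h U₀ f₁))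
      (∑ j, γ j • res (O := 𝔛.Osh h) (Kn 𝔛 h n) (hV'V.trans hV) (t j)) =
      ∑ j, γ j • res (O := 𝔛.Osh h) (FSch.unitF 𝔛 h) hV'U j.1 := by
    rw [map_sum]
    refine Finset.sum_congr rfl fun j _ => ?_
    rw [map_smul, app_res, ht j, res_res]
  exact hL.trans hR.symm

end Kernel

end Formal

end Groth.Agent.LD.FCompl.IdealFT
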